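import Cfsg.Agent.Spor.J4N.L.D0

set_option autoImplicit false
set_option maxRecDepth 100000000
set_option Elab.async false

namespace Cfsg.Agent.Spor.J4N.L

theorem gr4 : sub M3 (U.growI W1 [2, 0, 1, 2, 1, 0, 1, 2, 1, 0, 1, 2, 1, 0, 1, 2, 1, 0, 1, 2, 1, 0, 1, 2, 1, 0, 1] (Nat.shiftLeft 1 0)) = true := by decide +kernel

theorem cl6 : band (U.closedW W1 M3) (sub (Nat.shiftLeft 1 0) M3) = true := by decide +kernel

theorem sz7 : sizeOk 11 M3 2048 = true := by decide +kernel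

theorem fx10 : U.closedW W9 (Nat.shiftLeft 1 0) = true := by decide +kernel

theorem uok3 : Net.okb 11 un3 = true := by decide +kernel

theorem rel11 : U.rel 11 [7, 3, 3, 3, 3, 3, 3, 1, 3, 1, 1, 3, 1, 3, 1, 3, 3, 3, 3, 1, 1, 1, 1, 3, 3, 3, 3, 3, 3, 3, 3, 3, 1, 3, 3, 1, 3, 1, 1, 1, 3, 3, 1, 3, 3, 3, 3, 3, 3, 3, 3, 3, 1, 3, 3, 3, 1, 1, 1, 1, 1, 1, 1, 1, 3, 1, 3, 1, 3, 1, 1, 1, 3, 1, 1, 3, 3, 1, 3, 1, 3, 1] 0 11 = true := by decide +kernel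

theorem uok4 : Net.okb 11 un4 = true := by decide +kernel

theorem rel12 : U.rel 11 [9, 3, 3, 3, 3, 1, 1, 3, 1, 3, 1, 1, 1, 3, 3, 3, 1, 3, 1, 1, 3, 1, 1, 1, 1, 1, 3, 3, 1, 1, 1, 1, 3, 3, 3, 3, 1, 3, 1, 3, 1, 3, 1, 1, 1, 1, 1, 1, 1, 3, 3, 1, 1, 3, 1, 1, 1, 1, 3, 1, 3, 1, 1, 1, 3, 3, 1, 1, 3, 3, 3, 1, 3, 1, 3, 3, 3, 1, 3, 3, 3, 1, 3, 1, 3, 1, 1, 3, 1, 3, 3, 3, 3, 3, 3, 1, 3, 1, 3, 3, 1, 3, 3, 1, 3, 3, 1, 3, 1, 3, 3, 1, 3, 1, 3, 3] 0 11 = true := by decide +kernel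

theorem gr14 : sub M13 (U.growI W9 [0, 1, 1, 0, 1, 1, 0, 1, 1, 0, 1, 1, 0, 1, 1, 0, 1, 1, 0, 1, 1, 0, 1, 1, 0, 1, 1, 0, 1, 1, 0, 1, 1, 0, 1, 1, 0] (Nat.shiftLeft 1 7)) = true := by decide +kernel

theorem cl16 : band (U.closedW W9 M13) (sub (Nat.shiftLeft 1 7) M13) = true := by decide +kernel

theorem sz17 : sizeOk 11 M13 1771 = true := by decide +kernel

theorem fx20 : U.closedW W19 (Nat.shiftLeft 1 7) = true := by decide +kernel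

theorem uok5 : Net.okb 11 un5 = true := by decide +kernel

theorem rel21 : U.rel 11 [11, 7, 9, 9, 9, 9, 9, 7, 9, 7, 7, 9, 7, 7, 9, 9, 7, 9, 7, 7, 9, 9, 7, 9, 7, 9, 7, 9, 9, 7, 9] 0 11 = true := by decide +kernel

theorem uok6 : Net.okb 11 un6 = true := by decide +kernel

theorem rel22 : U.rel 11 [13, 9, 9, 7, 9, 7, 7, 9, 9, 7, 9, 9, 9, 7, 9, 9, 7, 9, 7, 9, 9, 7, 7, 9, 9, 9, 9, 7, 9, 7, 9, 9, 9, 7, 9, 7, 7, 7, 9, 7, 9, 7, 9, 9, 7, 7, 9, 7, 9] 0 11 = true := by decide +kernel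

theorem uok7 : Net.okb 11 un7 = true := by decide +kernel

theorem rel23 : U.rel 11 [15, 9, 9, 7, 9, 9, 9, 9, 9, 9, 9, 7, 9, 7, 9, 7] 0 11 = true := by decide +kernel

theorem gr25 : sub M24 (U.growI W19 [0, 1, 1, 0, 0, 1, 1, 0, 0, 1, 1, 0, 0, 1, 1, 0, 0, 1, 1, 0, 0, 1] (Nat.shiftLeft 1 25)) = true := by decide +kernel

theorem cl27 : band (U.closedW W19 M24) (sub (Nat.shiftLeft 1 25) M24) = true := by decide +kernel

theorem sz28 : sizeOk 11 M24 1440 = true := by decide +kernel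

theorem fx31 : U.closedW W30 (Nat.shiftLeft 1 25) = true := by decide +kernel

theorem gr33 : sub M32 (U.growI W30 [0, 1, 2, 2, 1, 0, 0, 1, 2, 2, 1] (Nat.shiftLeft 1 97)) = true := by decide +kernel

theorem cl35 : band (U.closedW W30 M32) (sub (Nat.shiftLeft 1 97) M32) = true := by decide +kernel

theorem sz36 : sizeOk 11 M32 96 = true := by decide +kernel

end Cfsg.Agent.Spor.J4N.L
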