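import Cfsg.Agent.Spor.Prim
import Cfsg.Agent.Spor.J4N.Main
import Cfsg.Agent.Spor.J4N.L.C0
import Cfsg.Agent.Spor.TT2

set_option autoImplicit false
set_option maxRecDepth 100000000
set_option Elab.async false

namespace Cfsg.Agent.Spor.J4N.L

theorem hU : U.Ok 11 := U.ok_of 11 (show AllP (fun n => Net.okb 11 n = true) [n0, n1, n2, un3, un4, un5, un6, un7] from AllP.cons ok0 (AllP.cons ok1 (AllP.cons ok2 (AllP.cons uok3 (AllP.cons uok4 (AllP.cons uok5 (AllP.cons uok6 (AllP.cons uok7 (AllP.nil)))))))))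

theorem hfP : ∀ j < 3, U.fP [1, 3, 5] j = fP j := by
  intro j hj
  interval_cases j <;> rfl
theorem eG : gsub 3 fP = U.lsub W1 := (gsub_congr hfP).symm.trans (lsub_eq_gsub U [1, 3, 5])
theorem upz1 : ev (atm 3 fP) [0] = U.τ 1 := pz1
theorem upz3 : ev (atm 3 fP) [2] = U.τ 3 := pz2
theorem upz5 : ev (atm 3 fP) [4] = U.τ 5 := pz3
theorem eH : wsub 3 fP BW = U.lsub W2 :=
  lsub_eq_of_all₂ (show List.Forall₂ _ [] [] from List.Forall₂.nil)
theorem reach5 : Reach (U.lsub W1) 0 M3 := (Reach.grow hU (Reach.base _ 0) gr4)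
theorem orb8 : (orbS (U.lsub W1) 0).ncard = 2048 := reach5.ncard hU cl6 sz7
theorem orb8e : orbS (U.lsub W1) 0 = {c | Nat.testBit M3 c = true} := reach5.orb hU cl6
theorem reach15 : Reach (U.lsub W9) 7 M13 := (Reach.grow hU (Reach.base _ 7) gr14)
theorem orb18 : (orbS (U.lsub W9) 7).ncard = 1771 := reach15.ncard hU cl16 sz17
theorem orb18e : orbS (U.lsub W9) 7 = {c | Nat.testBit M13 c = true} := reach15.orb hU cl16
theorem reach26 : Reach (U.lsub W19) 25 M24 := (Reach.grow hU (Reach.base _ 25) gr25)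
theorem orb29 : (orbS (U.lsub W19) 25).ncard = 1440 := reach26.ncard hU cl27 sz28
theorem orb29e : orbS (U.lsub W19) 25 = {c | Nat.testBit M24 c = true} := reach26.orb hU cl27
theorem reach34 : Reach (U.lsub W30) 97 M32 := (Reach.grow hU (Reach.base _ 97) gr33)
theorem orb37 : (orbS (U.lsub W30) 97).ncard = 96 := reach34.ncard hU cl35 sz36
theorem orb37e : orbS (U.lsub W30) 97 = {c | Nat.testBit M32 c = true} := reach34.orb hU cl35
theorem lb38 : 96 ∣ Nat.card (U.lsub W30) := dvd_card_orb orb37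
theorem lb39 : 138240 ∣ Nat.card (U.lsub W19) :=
  dvd_card_step (s := 1440) (M := 96) (B := U.lsub W30) (Tab.lsub_le_all (AllP.cons (mem_of_rel (hU.one rel21) (U.mem_letters (by decide))) (AllP.cons (mem_of_rel (hU.one rel22) (U.mem_letters (by decide))) (AllP.cons (mem_of_rel (hU.one rel23) (U.mem_letters (by decide))) (AllP.nil))))) (hU.fixes fx31) orb29 lb38
theorem lb40 : 244823040 ∣ Nat.card (U.lsub W9) :=
  dvd_card_step (s := 1771) (M := 138240) (B := U.lsub W19) (Tab.lsub_le_all (AllP.cons (mem_of_rel (hU.one rel11) (U.mem_letters (by decide))) (AllP.cons (mem_of_rel (hU.one rel12) (U.mem_letters (by decide))) (AllP.nil)))) (hU.fixes fx20) orb18 lb39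
theorem lb : 501397585920 ∣ Nat.card (U.lsub W1) :=
  dvd_card_step (s := 2048) (M := 244823040) (B := U.lsub W9) (U.lsub_sub (by decide)) (hU.fixes fx10) orb8 lb40

end Cfsg.Agent.Spor.J4N.L
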